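import Cfsg.Agent.H0.TT
import Cfsg.Agent.H0.MU33.D
import Cfsg.Agent.H0.ML27.D
set_option maxRecDepth 100000
set_option Elab.async false
set_option linter.unusedSectionVars false
namespace H0.EU33
open H0 BN 
noncomputable def n9 : Net := (Net.cons (nat_lit 16) (nat_lit 0xe5c8) (Net.cons (nat_lit 8) (nat_lit 0xa40032) (Net.cons (nat_lit 4) (nat_lit 0xa080c) (Net.cons (nat_lit 2) (nat_lit 0x22302002) (Net.cons (nat_lit 1) (nat_lit 0x41010101) (Net.cons (nat_lit 2) (nat_lit 0x22000002) (Net.cons (nat_lit 4) (nat_lit 0xa0808) (Net.cons (nat_lit 8) (nat_lit 0x200022) (Net.cons (nat_lit 16) (nat_lit 0xe5c8) Net.nil)))))))))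
noncomputable def n10 : Net := (Net.cons (nat_lit 16) (nat_lit 0xe2a0) (Net.cons (nat_lit 8) (nat_lit 0xea00d5) (Net.cons (nat_lit 4) (nat_lit 0xa070b0d) (Net.cons (nat_lit 2) (nat_lit 0x310130) (Net.cons (nat_lit 1) (nat_lit 0x1145040) (Net.cons (nat_lit 2) (nat_lit 0x2200000) (Net.cons (nat_lit 4) (nat_lit 0x200020c) (Net.cons (nat_lit 8) (nat_lit 0x2000c0) (Net.cons (nat_lit 16) (nat_lit 0xe784) Net.nil)))))))))
noncomputable def n11 : Net := (Net.cons (nat_lit 16) (nat_lit 0xe784) (Net.cons (nat_lit 8) (nat_lit 0x20003f) (Net.cons (nat_lit 4) (nat_lit 0x20f030d) (Net.cons (nat_lit 2) (nat_lit 0x2310310) (Net.cons (nat_lit 1) (nat_lit 0x1140105) (Net.cons (nat_lit 2) (nat_lit 0x200000) (Net.cons (nat_lit 4) (nat_lit 0xa080204) (Net.cons (nat_lit 8) (nat_lit 0xea002a) (Net.cons (nat_lit 16) (nat_lit 0xe2a0) Net.nil)))))))))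
noncomputable def n12 : Net := (Net.cons (nat_lit 16) (nat_lit 0xe784) (Net.cons (nat_lit 8) (nat_lit 0x20003f) (Net.cons (nat_lit 4) (nat_lit 0x20f030d) (Net.cons (nat_lit 2) (nat_lit 0x2310310) (Net.cons (nat_lit 1) (nat_lit 0x1140105) (Net.cons (nat_lit 2) (nat_lit 0x200000) (Net.cons (nat_lit 4) (nat_lit 0xa080204) (Net.cons (nat_lit 8) (nat_lit 0xea002a) (Net.cons (nat_lit 16) (nat_lit 0xe2a0) Net.nil)))))))))
noncomputable def n13 : Net := (Net.cons (nat_lit 16) (nat_lit 0xe2a0) (Net.cons (nat_lit 8) (nat_lit 0xea00d5) (Net.cons (nat_lit 4) (nat_lit 0xa070b0d) (Net.cons (nat_lit 2) (nat_lit 0x310130) (Net.cons (nat_lit 1) (nat_lit 0x1145040) (Net.cons (nat_lit 2) (nat_lit 0x2200000) (Net.cons (nat_lit 4) (nat_lit 0x200020c) (Net.cons (nat_lit 8) (nat_lit 0x2000c0) (Net.cons (nat_lit 16) (nat_lit 0xe784) Net.nil)))))))))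
noncomputable def n14 : Net := (Net.cons (nat_lit 16) (nat_lit 0x7cc1) (Net.cons (nat_lit 8) (nat_lit 0x940024) (Net.cons (nat_lit 4) (nat_lit 0x60a00) (Net.cons (nat_lit 2) (nat_lit 0x32002220) (Net.cons (nat_lit 1) (nat_lit 0x5140511) (Net.cons (nat_lit 2) (nat_lit 0x20020) (Net.cons (nat_lit 4) (nat_lit 0xe020000) (Net.cons (nat_lit 8) (nat_lit 0x860028) (Net.cons (nat_lit 16) (nat_lit 0x7878) Net.nil)))))))))
noncomputable def n15 : Net := (Net.cons (nat_lit 16) (nat_lit 0x786b) (Net.cons (nat_lit 8) (nat_lit 0x410004) (Net.cons (nat_lit 4) (nat_lit 0xe0c0802) (Net.cons (nat_lit 2) (nat_lit 0x10310020) (Net.cons (nat_lit 1) (nat_lit 0x11450114) (Net.cons (nat_lit 2) (nat_lit 0x20000202) (Net.cons (nat_lit 4) (nat_lit 0x8000802) (Net.cons (nat_lit 8) (nat_lit 0xa0008) (Net.cons (nat_lit 16) (nat_lit 0x7c42) Net.nil)))))))))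
noncomputable def n16 : Net := (Net.cons (nat_lit 16) (nat_lit 0xe2a0) (Net.cons (nat_lit 8) (nat_lit 0xea00d5) (Net.cons (nat_lit 4) (nat_lit 0xa070b0d) (Net.cons (nat_lit 2) (nat_lit 0x310130) (Net.cons (nat_lit 1) (nat_lit 0x1145040) (Net.cons (nat_lit 2) (nat_lit 0x2200000) (Net.cons (nat_lit 4) (nat_lit 0x200020c) (Net.cons (nat_lit 8) (nat_lit 0x2000c0) (Net.cons (nat_lit 16) (nat_lit 0xe784) Net.nil)))))))))
noncomputable def n17 : Net := (Net.cons (nat_lit 16) (nat_lit 0xe784) (Net.cons (nat_lit 8) (nat_lit 0x20003f) (Net.cons (nat_lit 4) (nat_lit 0x20f030d) (Net.cons (nat_lit 2) (nat_lit 0x2310310) (Net.cons (nat_lit 1) (nat_lit 0x1140105) (Net.cons (nat_lit 2) (nat_lit 0x200000) (Net.cons (nat_lit 4) (nat_lit 0xa080204) (Net.cons (nat_lit 8) (nat_lit 0xea002a) (Net.cons (nat_lit 16) (nat_lit 0xe2a0) Net.nil)))))))))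
noncomputable def nl2 : List Net := [n9, n10, n11, n12, n13, n14, n15, n16, n17]
theorem nl2_ok : allL (Net.ok (nat_lit 32)) nl2 = true := by decide +kernel
noncomputable def nl : List Net := [H0.MU33.n0, H0.MU33.n1, H0.MU33.n2, H0.MU33.n3, H0.MU33.n4, H0.MU33.n5, H0.MU33.n6, H0.MU33.n7, H0.MU33.n8, n9, n10, n11, n12, n13, n14, n15, n16, n17]
theorem nl_ok : allL (Net.ok (nat_lit 32)) nl = true := allL_append H0.MU33.nl_ok nl2_ok
noncomputable def R : Rep := mkRep (nat_lit 5) (nat_lit 32) nl (by decide +kernel) nl_ok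
def defs : List (List ℕ) := [[1, 1, 0, 1, 1, 0, 4, 4, 4, 4, 4, 6, 6, 6, 6], [1, 0, 1, 0, 1, 0, 4, 4, 3, 6, 6, 6, 6], [10, 10], [11], [12, 12], [9, 10, 9, 11, 9, 11, 9], [14, 14], [13], [16, 16]]
theorem c0 : pairsB R [2, 1, 0] ((((H0.ML27.B.map (sh 9)).map fun r => (r, ([] : List ℕ))).drop 0).take 25) = true := by decide +kernel
theorem c1 : neB R [9] [] 0 23 0 = true := by decide +kernel
theorem c2 : defsChk R defs 9 = true := by decide +kernel
end H0.EU33
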